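import Cfsg.Agent.KGV.I.Idem
import Cfsg.Agent.KGV.Big
import Mathlib.LinearAlgebra.Matrix.Charpoly.FiniteField
import Mathlib.LinearAlgebra.Matrix.GeneralLinearGroup.Defs
import Mathlib.LinearAlgebra.Dimension.Basic

/-! Functional calculus for matrices over a finite field. -/

set_option autoImplicit false

namespace CL.KGZ
open CL.KGV CL.KGV.Idem Matrix

variable {K : Type*} [Field K] {n : Type*} [Fintype n] [DecidableEq n]

/-- rank of a matrix -/
noncomputable def rkM (E : Matrix n n K) : ℕ := rk (toLin' E)

theorem rkM_zero : rkM (0 : Matrix n n K) = 0 := by simp [rkM, rk]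

theorem rkM_map (σ : K ≃+* K) (E : Matrix n n K) : rkM (E.map σ) = rkM E := by
  unfold rkM rk Module.finrank
  congr 1
  symm
  have hm : ∀ (τ : K ≃+* K) (A : Matrix n n K) (v : n → K), v ∈ LinearMap.range (toLin' A) →
      (τ ∘ v) ∈ LinearMap.range (toLin' (A.map τ)) := by
    rintro τ A v ⟨w, rfl⟩
    refine ⟨τ ∘ w, ?_⟩
    funext i
    simp [toLin'_apply, mulVec, dotProduct, map_sum]
  have hE : (E.map σ).map σ.symm = E := by ext i j; simp
  let j : LinearMap.range (toLin' E) ≃+ LinearMap.range (toLin' (E.map σ)) :=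
    { toFun := fun v => ⟨σ ∘ v.1, hm σ E v.1 v.2⟩
      invFun := fun v => ⟨σ.symm ∘ v.1, by have := hm σ.symm _ v.1 v.2; rwa [hE] at this⟩
      left_inv := fun v => Subtype.ext (funext fun i => by simp)
      right_inv := fun v => Subtype.ext (funext fun i => by simp)
      map_add' := fun v w => Subtype.ext (funext fun i => by simp) }
  exact rank_eq_of_equiv_equiv σ j σ.bijective fun r m => Subtype.ext (funext fun i => by simp [j])

section fc
variable {ι : Type*} [Fintype ι] {E : ι → Matrix n n K}

/-- functional calculus -/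
noncomputable def fc (hE : CompleteOrthogonalIdempotents E) : (ι → K) →ₐ[K] Matrix n n K :=
  AlgHom.ofLinearMap (Fintype.linearCombination K E)
    (by simp [Fintype.linearCombination_apply, hE.complete])
    (by
      classical
      intro c d
      simp only [Fintype.linearCombination_apply, Finset.sum_mul_sum, smul_mul_smul_comm,
        hE.toOrthogonalIdempotents.mul_eq, smul_ite, smul_zero, Finset.sum_ite_eq,
        Finset.mem_univ, if_true, Pi.mul_apply])

theorem fc_apply (hE : CompleteOrthogonalIdempotents E) (c : ι → K) :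
    fc hE c = ∑ i, c i • E i := by
  simp [fc, Fintype.linearCombination_apply]

theorem coi_toLin (hE : CompleteOrthogonalIdempotents E) :
    CompleteOrthogonalIdempotents (fun i => (toLin' (E i) : Module.End K (n → K))) :=
  hE.map (toLinAlgEquiv' : Matrix n n K ≃ₐ[K] Module.End K (n → K)).toRingEquiv.toRingHom

theorem det_fc (hE : CompleteOrthogonalIdempotents E) (c : ι → K) :
    (fc hE c).det = ∏ i, c i ^ rkM (E i) := by
  rw [fc_apply, ← LinearMap.det_toLin', map_sum]
  simp only [map_smul]
  exact det_sum_top _ (coi_toLin hE) c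

theorem trace_fc (hE : CompleteOrthogonalIdempotents E) (c : ι → K) :
    (fc hE c).trace = ∑ i, c i * rkM (E i) := by
  rw [fc_apply, ← trace_toLin'_eq, map_sum]
  simp only [map_smul]
  exact Idem.trace_sum _ (coi_toLin hE).idem c _

variable [Fintype K] [DecidableEq K]

theorem ep_fc (hE : CompleteOrthogonalIdempotents E) (c : ι → K) (a : K) :
    ep (fc hE c) a = fc hE fun i => if c i = a then 1 else 0 := by
  have h := map_ep (F := K) (fc hE).toRingHom id (fun a => (fc hE).commutes a) c a
  refine h.symm.trans ?_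
  show fc hE _ = _
  congr 1
  funext i
  simp only [ep, Pi.sub_apply, Pi.one_apply, Pi.pow_apply, Pi.algebraMap_apply,
    Algebra.algebraMap_self, RingHom.id_apply]
  split_ifs with h1
  · rw [h1, sub_self, zero_pow (by have := Fintype.one_lt_card (α := K); omega), sub_zero]
  · rw [FiniteField.pow_card_sub_one_eq_one _ (sub_ne_zero.2 h1), sub_self]

end fc

variable [Fintype K]

/-- determinant of `g` on the `b`-eigenspace of `y` -/
noncomputable def D (y g : Matrix n n K) (b : K) : K := (g * ep y b + (1 - ep y b)).det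

theorem D_one (y : Matrix n n K) (b : K) : D y 1 b = 1 := by simp [D]

theorem D_mul {y : Matrix n n K} (hy : y ^ Fintype.card K = y) (a : Matrix n n K)
    {a' : Matrix n n K} (h : Commute a' y) (b : K) : D y (a * a') b = D y a b * D y a' b := by
  have h1 : ep y b * ep y b = ep y b := (coi hy).idem b
  have h2 : a' * ep y b = ep y b * a' := commute_ep h b
  unfold D
  rw [← det_mul]
  congr 1
  generalize ep y b = e at h1 h2
  calc a * a' * e + (1 - e) = a * (a' * e) * e + a * (e - e * e) + (a' * e - (a' * e) * e)
        + (1 - e - e + e * e) := by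
        rw [mul_assoc a (a' * e), mul_assoc a' e e, h1]; noncomm_ring
    _ = _ := by
        have h3 : a' * e * e = e * a' * e := by rw [h2]
        have h4 : a * (a' * e) * e = a * (e * a') * e := by rw [h2]
        rw [h3, h4]; noncomm_ring

theorem D_pow {y : Matrix n n K} (hy : y ^ Fintype.card K = y) {a : Matrix n n K}
    (h : Commute a y) (b : K) (k : ℕ) : D y (a ^ k) b = D y a b ^ k := by
  induction k with
  | zero => simp [D_one]
  | succ k ih => rw [pow_succ, D_mul hy _ h, ih, pow_succ]

theorem D_conj (u : (Matrix n n K)ˣ) (y g : Matrix n n K) (b : K) :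
    D (u.1 * y * (u⁻¹).1) (u.1 * g * (u⁻¹).1) b = D y g b := by
  have h1 : ep (u.1 * y * (u⁻¹).1) b = u.1 * ep y b * (u⁻¹).1 := by
    unfold ep
    have : u.1 * y * (u⁻¹).1 - algebraMap K _ b = u.1 * (y - algebraMap K _ b) * (u⁻¹).1 := by
      rw [mul_sub, sub_mul, ← Algebra.commutes, mul_assoc (algebraMap K _ b), Units.mul_inv, mul_one]
    rw [this, Units.conj_pow, mul_sub, sub_mul, mul_one, Units.mul_inv]
  unfold D
  rw [h1, ← det_units_conj u (g * ep y b + (1 - ep y b))]
  congr 1
  rw [mul_add, add_mul, mul_sub, sub_mul, mul_one, Units.mul_inv]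
  simp only [mul_assoc, Units.inv_mul_cancel_left]

theorem D_fc [DecidableEq K] {ι : Type*} [Fintype ι] {E : ι → Matrix n n K}
    (hE : CompleteOrthogonalIdempotents E) (c d : ι → K) (a : K) :
    D (fc hE c) (fc hE d) a = ∏ i, (if c i = a then d i else 1) ^ rkM (E i) := by
  unfold D
  rw [ep_fc, ← map_mul, ← map_one (fc hE), ← map_sub, ← map_add, det_fc]
  refine Finset.prod_congr rfl fun i _ => ?_
  congr 1
  simp only [Pi.add_apply, Pi.mul_apply, Pi.sub_apply, Pi.one_apply]
  split_ifs <;> simp

end CL.KGZ
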