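import Cfsg.Agent.KGV.Z.Re
import Cfsg.Agent.KGV.NT
import Cfsg.Agent.KGV.Pair
import Cfsg.Agent.KGV.Tr
import Mathlib.NumberTheory.MulChar.Basic

/-! The matrix statement `Tr.Mat`. -/

set_option autoImplicit false

namespace CL.KGZ
open CL.KGV CL.KGV.Idem Matrix Polynomial

theorem aeval_frob (p : ℕ) [Fact p.Prime] {K : Type*} [Field K] [Algebra (ZMod p) K]
    (R : (ZMod p)[X]) (a : K) (i : ℕ) : aeval (a ^ p ^ i) R = aeval a R ^ p ^ i := by
  induction i with
  | zero => simp
  | succ i ih => rw [pow_succ, pow_mul, pow_mul, ← ih, ← expand_aeval, ZMod.expand_card, map_pow]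

theorem mat (p : ℕ) [hp : Fact p.Prime] : Tr.Mat p := by
  classical
  intro n
  obtain ⟨k, hk, hQ1, hQ2⟩ := Big.ex p (GL (Fin n) (ZMod p))
  let K := GaloisField p k
  let _ : Fintype K := Fintype.ofFinite K
  have hK : Fintype.card K = p ^ k := by rw [← Nat.card_eq_fintype_card]; exact GaloisField.card p k hk
  rw [← hK] at hQ1 hQ2
  set Q := Fintype.card K with hQdef
  have hQ : 1 < Q := Fintype.one_lt_card
  obtain ⟨ι, hι⟩ := Big.iota K
  let χ : MulChar K ℂ := MulChar.ofUnitHom ι
  have hχ : ∀ a : K, χ a = 1 → a = 1 := fun a ha => by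
    by_cases h0 : a = 0
    · rw [h0, MulChar.map_zero] at ha; exact absurd ha zero_ne_one
    · have h1 : χ (Units.mk0 a h0 : Kˣ) = ι (Units.mk0 a h0) := MulChar.ofUnitHom_coe ι _
      have h2 : ι (Units.mk0 a h0) = ι 1 := by
        rw [map_one]; exact Units.ext (h1.symm.trans ha)
      exact congrArg Units.val (hι h2)
  obtain ⟨l, ρ, h1, h2, h3, h4, h5, h6, h7⟩ := Pair.ex p K
  let φ : Matrix (Fin n) (Fin n) (ZMod p) →+* Matrix (Fin n) (Fin n) K :=
    (algebraMap (ZMod p) K).mapMatrix
  have φinj : Function.Injective φ := Matrix.map_injective (algebraMap (ZMod p) K).injective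
  let f : GL (Fin n) (ZMod p) →* Matrix (Fin n) (Fin n) K := φ.toMonoidHom.comp (Units.coeHom _)
  have hf : ∀ x, f x = φ x.1 := fun _ => rfl
  have finj : Function.Injective f := fun x y h => Units.ext (φinj h)
  have fu : ∀ x, IsUnit (f x) := fun x => (Group.isUnit x).map f
  have φF : ∀ x, (φ x).map (frobenius K p) = φ x := fun x => by
    ext i j
    show (algebraMap (ZMod p) K (x i j)) ^ p = algebraMap (ZMod p) K (x i j)
    rw [← map_pow, ZMod.pow_card]
  have fc' : ∀ {a b : GL (Fin n) (ZMod p)}, a * b = b * a → Commute (f a) (f b) := fun h =>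
    Commute.map h f
  have fS : ∀ y, f (y ^ Q) ^ Q = f (y ^ Q) := fun y => by rw [← map_pow, hQ1]
  let P : GL (Fin n) (ZMod p) → GL (Fin n) (ZMod p) → K :=
    fun y g => ∏ b, D (f (y ^ Q)) (f g) b ^ l b
  have Pmul : ∀ y a b, b * y = y * b → P y (a * b) = P y a * P y b := fun y a b hb => by
    simp only [P, map_mul, D_mul (fS y) _ (fc' (Commute.pow_right hb Q)), mul_pow,
      Finset.prod_mul_distrib]
  have Pone : ∀ y, P y 1 = 1 := fun y => by simp only [P, map_one, D_one, one_pow, Finset.prod_const_one]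
  refine ⟨Q - 1, ?_, fun y g => χ (P y g), ?_, ?_, ?_, ?_⟩
  · intro h
    have h' : p ∣ Q := by rw [hK]; exact dvd_pow_self p hk
    have := (Nat.dvd_sub_iff_right hQ.le h').1 h
    exact hp.out.one_lt.ne' (Nat.dvd_one.1 this)
  · intro y a b _ hb
    simp only [Pmul y a b hb, map_mul]
  · intro y
    simp only [Pone, map_one]
  · intro y g a _
    have e : ∀ z, f (g * z * g⁻¹) = (Units.map φ.toMonoidHom g).1 * f z *
        ((Units.map φ.toMonoidHom g)⁻¹).1 := fun z => by rw [map_mul, map_mul]; rfl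
    simp only [P, conj_pow, e, D_conj]
  intro g m hm hg
  have hgQ : g ^ Q = g := hQ2 g m hm hg
  have hG : f g ^ Q = f g := by rw [← map_pow, hgQ]
  have Pg : ∀ x, P g x = ∏ b, D (f g) (f x) b ^ l b := fun x => by simp only [P, hgQ]
  refine ⟨?_, ?_, ?_, ?_⟩
  · intro x hx
    have hi : x⁻¹ * g = g * x⁻¹ := Commute.inv_left hx
    have h0 : P g x ≠ 0 := left_ne_zero_of_mul_eq_one (b := P g x⁻¹) (by
      rw [← Pmul g x x⁻¹ hi, mul_inv_cancel, Pone])
    show χ (P g x) ^ (Q - 1) = 1
    rw [← map_pow, FiniteField.pow_card_sub_one_eq_one _ h0, map_one]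
  · intro x _ hx
    show χ (P g x) = 1
    have hx' : f x * (f g - 1) = f g - 1 := by
      rw [hf, hf, ← map_one φ, ← map_sub, ← map_mul, hx]
    rw [Pg, Finset.prod_eq_one, map_one]
    intro b _
    by_cases hb : b = 1
    · rw [hb, h6, pow_zero]
    · have e1 : (f g - 1) * ep (f g) b = (b - 1) • ep (f g) b := by
        rw [sub_mul, mul_ep hG, one_mul, sub_smul, one_smul]
      have e2 : f x * ep (f g) b = ep (f g) b := by
        apply smul_right_injective _ (sub_ne_zero.2 hb)
        show (b - 1) • (f x * ep (f g) b) = (b - 1) • ep (f g) b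
        rw [← mul_smul_comm, ← e1, ← mul_assoc, hx']
      rw [D, e2, add_sub_cancel, det_one, one_pow]
  · intro hg1
    obtain ⟨a, ha1, ha⟩ : ∃ a : K, a ≠ 1 ∧ ep (f g) a ≠ 0 := by
      by_contra hcon
      push Not at hcon
      apply hg1
      apply finj
      rw [map_one, ← sum_ep hG, ← (coi hG).complete]
      refine Finset.sum_congr rfl fun a _ => ?_
      by_cases h : a = 1
      · rw [h, one_smul]
      · rw [hcon a h, smul_zero]
    have ha0 : a ≠ 0 := fun h => ha (by rw [h]; exact ep_zero hG (fu g))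
    obtain ⟨j, R, hR, hl⟩ := h7 a ha0
    have hF := Fr_ep p (φF g.1)
    have hj : ∀ j : ℕ, ep (f g) (a ^ p ^ j) ≠ 0 ∧ a ^ p ^ j ≠ 1 := fun j => by
      induction j with
      | zero => simpa using ⟨ha, ha1⟩
      | succ j ih =>
        rw [pow_succ, pow_mul]
        refine ⟨fun h => ih.1 ?_, fun h => ih.2 ?_⟩
        · apply Matrix.map_injective (frobenius K p).injective
          show (ep (f g) (a ^ p ^ j)).map _ = (0 : Matrix (Fin n) (Fin n) K).map _
          rw [Matrix.map_zero _ (map_zero _)]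
          exact (hF _).trans h
        · apply (frobenius K p).injective
          rw [map_one]; exact h
    set a0 := a ^ p ^ j with ha0def
    have hl0 : l a0 ≠ 0 := fun h => (hj j).2 (by rw [← ha0def, ← hR, h, pow_zero])
    have hb : aeval a0 R ≠ 0 := fun h => pow_ne_zero (p ^ j) ha0 (by
      rw [← ha0def, ← hR, h, zero_pow hl0])
    have hab : ∀ i, a0 ^ p ^ i = a0 → aeval a0 R ^ p ^ i = aeval a0 R := fun i hi => by
      rw [← aeval_frob p R a0 i, hi]
    obtain ⟨x, x1, x2, x3, x4, x5⟩ := NT.ex p (f g) (ep (f g)) (coi hG).idem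
      (fun a c h => (coi hG).ortho h) hF (mul_ep hG)
      (fun a => by rw [← mul_ep hG]; exact (commute_ep (Commute.refl _) a).symm) (hj j).1 hb hab
    obtain ⟨x0, hx0⟩ := Big.desc p x x1
    have hx0' : φ x0 = x := hx0
    have hu : IsUnit x0 := by
      rw [isUnit_iff_isUnit_det, isUnit_iff_ne_zero]
      intro h
      rw [← hx0', ← RingHom.map_det, h, map_zero] at x3
      exact not_isUnit_zero x3
    have hfx : f hu.unit = x := hx0'
    refine ⟨hu.unit, finj (by rw [map_mul, map_mul, hfx, x2]), fun h => (hj j).2 ?_⟩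
    have h' := hχ _ h
    rw [Pg, hfx, Finset.prod_eq_single a0 _ (by simp), D, ← add_sub_assoc, x4, hR] at h'
    · exact h'
    · intro c _ hc
      by_cases hc' : ∀ i, c ≠ a0 ^ p ^ i
      · rw [D, ← add_sub_assoc, x5 c hc', one_pow]
      · push Not at hc'
        obtain ⟨i, hi⟩ := hc'
        rw [ha0def, ← pow_mul, ← pow_add] at hi
        rw [hi] at hc ⊢
        rw [hl _ hc, pow_zero]
  · have key : ∀ x : {x : GL (Fin n) (ZMod p) // x * g = g * x},
        ∃ y : {x : GL (Fin n) (ZMod p) // x * g = g * x}, P x.1 g = P g y.1 ∧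
          y.1.1.trace = x.1.1.trace ∧ f y.1 = f (x.1 * (x.1 ^ Q)⁻¹) * f y.1 ^ Q ∧
          f (x.1 ^ Q) = ∑ a : K, ∑ c : K, Function.invFun (ρ a) c • (ep (f g) a * ep (f y.1 ^ Q) c) := by
      rintro ⟨x, hx⟩
      have hx' : Commute x g := hx
      obtain ⟨R, r1, r2, r3, r4, r5, r6, r7⟩ := core p hG (fS x) (fc' (hx'.symm.pow_right Q)) (fu _)
        (fu _) (φF _) (φF _) l ρ h1 h2 h3 h4 h5
      obtain ⟨R0, hR0⟩ := Big.desc p R r1
      have hR0' : φ R0 = R := hR0
      have hu : IsUnit R0 := IsUnit.of_pow_eq_one (n := Q - 1)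
        (φinj (by rw [map_pow, hR0', r3, map_one])) (by omega)
      have hfR : f hu.unit = R := hR0'
      set u := x * (x ^ Q)⁻¹ with hudef
      have c1 : Commute x (x ^ Q)⁻¹ := ((Commute.refl x).pow_right Q).inv_right
      have uQ : u ^ Q = 1 := by rw [hudef, c1.mul_pow, inv_pow, hQ1, mul_inv_cancel]
      have ug : Commute u g := hx'.mul_left (hx'.pow_left Q).inv_left
      have uS : Commute u (x ^ Q) :=
        ((Commute.refl x).pow_right Q).mul_left (Commute.refl _).inv_left
      have uR : Commute (f u) R := r4 _ (fc' ug) (fc' uS)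
      have gR : Commute (f g) R := r4 _ (Commute.refl _) (fc' (hx'.symm.pow_right Q))
      have fy : f (u * hu.unit) = f u * R := by rw [map_mul, hfR]
      have fyQ : f (u * hu.unit) ^ Q = R := by
        rw [fy, uR.mul_pow, ← map_pow, uQ, map_one, one_mul, r2]
      have tr : ∀ z : Matrix (Fin n) (Fin n) K, (z ^ Q).trace = z.trace := fun z => by
        rw [FiniteField.trace_pow_card, FiniteField.pow_card]
      refine ⟨⟨u * hu.unit, ?_⟩, ?_, ?_, ?_, ?_⟩
      · apply finj
        rw [map_mul, map_mul f g, fy]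
        exact ((fc' ug).mul_left gR.symm)
      · show P x g = P g (u * hu.unit)
        rw [Pg, fy]
        refine r5.trans (Finset.prod_congr rfl fun a _ => ?_)
        have e : D (f g) (f u) a = 1 := by
          rw [← FiniteField.pow_card (D (f g) (f u) a), ← D_pow hG (fc' ug), ← map_pow, uQ, map_one,
            D_one]
        rw [D_mul hG _ gR.symm, e, one_mul]
      · apply (algebraMap (ZMod p) K).injective
        have t1 : ∀ z : GL (Fin n) (ZMod p), algebraMap (ZMod p) K z.1.trace = (f z).trace :=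
          fun z => AddMonoidHom.map_trace _ _
        show algebraMap (ZMod p) K (u * hu.unit).1.trace = algebraMap (ZMod p) K x.1.trace
        rw [t1, t1, ← tr, fyQ, r6, map_pow, tr]
      · show f (u * hu.unit) = f u * f (u * hu.unit) ^ Q
        rw [fyQ, fy]
      · show f (x ^ Q) = ∑ a : K, ∑ c : K, Function.invFun (ρ a) c •
          (ep (f g) a * ep (f (u * hu.unit) ^ Q) c)
        rw [fyQ]; exact r7
    choose r k1 k2 k3 k4 using key
    have rinj : Function.Injective r := fun x x' h => by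
      have e1 : x.1 ^ Q = x'.1 ^ Q := finj (by rw [k4, k4, h])
      have e2 := k3 x
      rw [h, ← map_pow, ← map_mul] at e2
      have e3 := k3 x'
      rw [← map_pow, ← map_mul] at e3
      have e4 := mul_right_cancel (finj (e2.symm.trans e3))
      rw [e1] at e4
      exact Subtype.ext (mul_right_cancel e4)
    exact ⟨Equiv.ofBijective r (Finite.injective_iff_bijective.1 rinj),
      fun x => ⟨congrArg χ (k1 x), k2 x⟩⟩

end CL.KGZ
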