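import Cfsg.Agent.KGV.Z.Fc

/-! The re-indexing of semisimple parts. -/

set_option autoImplicit false

namespace CL.KGZ
open CL.KGV CL.KGV.Idem Matrix

variable {K : Type*} [Field K] {n : Type*} [Fintype n] [DecidableEq n] [Fintype K]
  (p : ℕ) [Fact p.Prime] [CharP K p]

theorem Fr_ep {G : Matrix n n K} (hG : G.map (frobenius K p) = G) (a : K) :
    (ep G a).map (frobenius K p) = ep G (a ^ p) := by
  have := map_ep (F := K) (frobenius K p).mapMatrix (fun a => a ^ p) (fun a => by
    ext i j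
    simp only [RingHom.mapMatrix_apply, map_apply, algebraMap_matrix_apply]
    split_ifs
    · simp [frobenius_def]
    · exact map_zero _) G a
  rwa [RingHom.mapMatrix_apply, RingHom.mapMatrix_apply, hG] at this

omit [Fact p.Prime] [CharP K p] in
theorem pow_pred {G : Matrix n n K} (hG : G ^ Fintype.card K = G) (hu : IsUnit G) :
    G ^ (Fintype.card K - 1) = 1 := by
  have h : Fintype.card K = Fintype.card K - 1 + 1 := by have := Fintype.card_pos (α := K); omega
  rw [h, pow_succ] at hG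
  exact hu.mul_right_cancel (hG.trans (one_mul G).symm)

omit [Fact p.Prime] [CharP K p] in
theorem ep_zero {G : Matrix n n K} (hG : G ^ Fintype.card K = G) (hu : IsUnit G) : ep G (0 : K) = 0 := by
  simp [ep, pow_pred hG hu]

theorem core {G S : Matrix n n K} (hG : G ^ Fintype.card K = G) (hS : S ^ Fintype.card K = S)
    (hc : Commute G S) (uG : IsUnit G) (uS : IsUnit S) (fG : G.map (frobenius K p) = G)
    (fS : S.map (frobenius K p) = S) (l : K → ℕ) (ρ : K → K → K)
    (h1 : ∀ a b, ρ (a ^ p) (b ^ p) = ρ a b ^ p) (h2 : ∀ a, Function.Injective (ρ a))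
    (h3 : ∀ a b, ∃ i : ℕ, ρ a b = b ^ p ^ i)
    (h4 : ∀ m : K → K → ℕ, (∀ a b, m (a ^ p) (b ^ p) = m a b) → (∀ b, m 0 b = 0) →
      (∀ a, m a 0 = 0) → ∏ a, ∏ b, a ^ (l b * m a b) = ∏ a, ∏ b, ρ a b ^ (l a * m a b))
    (h5 : ∀ m : K → K → ℕ, (∀ a b, m (a ^ p) (b ^ p) = m a b) → (∀ b, m 0 b = 0) →
      (∀ a, m a 0 = 0) → ∑ a, ∑ b, (m a b : K) * ρ a b = ∑ a, ∑ b, (m a b : K) * b) :
    ∃ R : Matrix n n K, R.map (frobenius K p) = R ∧ R ^ Fintype.card K = R ∧
      R ^ (Fintype.card K - 1) = 1 ∧ (∀ X, Commute X G → Commute X S → Commute X R) ∧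
      ∏ b, D S G b ^ l b = ∏ a, D G R a ^ l a ∧ R.trace = S.trace ∧
      S = ∑ a : K, ∑ c : K, Function.invFun (ρ a) c • (ep G a * ep R c) := by
  classical
  have hE := coi2 hG hS hc
  set E : K × K → Matrix n n K := fun ab => ep G ab.1 * ep S ab.2 with hEdef
  have eG : fc hE Prod.fst = G := by
    rw [fc_apply, Fintype.sum_prod_type]
    simp only [hEdef, ← smul_mul_assoc, ← Finset.mul_sum, (coi hS).complete, mul_one, sum_ep hG]
  have eS : fc hE Prod.snd = S := by
    rw [fc_apply, Fintype.sum_prod_type_right]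
    simp only [hEdef, ← mul_smul_comm, ← Finset.sum_mul, (coi hG).complete, one_mul, sum_ep hS]
  have fE : ∀ a b, (E (a, b)).map (frobenius K p) = E (a ^ p, b ^ p) := fun a b => by
    simp only [hEdef, Matrix.map_mul, Fr_ep p fG, Fr_ep p fS]
  set m : K → K → ℕ := fun a b => rkM (E (a, b)) with hm
  have m1 : ∀ a b, m (a ^ p) (b ^ p) = m a b := fun a b => by
    simp only [hm]
    rw [← fE, ← rkM_map (frobeniusEquiv K p) (E (a, b))]
    rfl
  have m2 : ∀ b, m 0 b = 0 := fun b => by simp only [hm, hEdef, ep_zero hG uG, zero_mul, rkM_zero]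
  have m3 : ∀ a, m a 0 = 0 := fun a => by simp only [hm, hEdef, ep_zero hS uS, mul_zero, rkM_zero]
  have hq : Fintype.card K - 1 ≠ 0 := by have := Fintype.one_lt_card (α := K); omega
  have hp0 : p ≠ 0 := (Fact.out : p.Prime).ne_zero
  refine ⟨fc hE fun ab => ρ ab.1 ab.2, ?_, ?_, ?_, ?_, ?_, ?_, ?_⟩
  · rw [fc_apply, ← RingHom.mapMatrix_apply, map_sum]
    refine Fintype.sum_equiv ((frobeniusEquiv K p).toEquiv.prodCongr (frobeniusEquiv K p).toEquiv)
      _ _ fun ab => ?_
    show _ = ρ (ab.1 ^ p) (ab.2 ^ p) • E (ab.1 ^ p, ab.2 ^ p)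
    rw [← fE, h1]
    ext i j
    simp [frobenius_def, mul_pow]
  · rw [← map_pow]
    congr 1
    funext ab
    exact FiniteField.pow_card _
  · rw [← map_pow, ← pow_pred hS uS, ← eS, ← map_pow]
    congr 1
    funext ab
    obtain ⟨i, hi⟩ := h3 ab.1 ab.2
    show ρ ab.1 ab.2 ^ _ = ab.2 ^ _
    rw [hi]
    by_cases hb : ab.2 = 0
    · rw [hb, zero_pow (pow_ne_zero _ hp0)]
    · rw [FiniteField.pow_card_sub_one_eq_one _ hb,
        FiniteField.pow_card_sub_one_eq_one _ (pow_ne_zero _ hb)]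
  · intro X hX hX'
    rw [fc_apply]
    exact Commute.sum_right _ _ _ fun ab _ =>
      ((commute_ep hX ab.1).mul_right (commute_ep hX' ab.2)).smul_right _
  · have e1 : ∀ b, D S G b ^ l b = ∏ a, a ^ (l b * m a b) := fun b => by
      conv_lhs => rw [← eS, ← eG]
      rw [D_fc, Fintype.prod_prod_type, ← Finset.prod_pow]
      refine Finset.prod_congr rfl fun a _ => ?_
      rw [Finset.prod_eq_single b (fun c _ hc => by simp [hc]) (by simp), if_pos rfl, ← pow_mul,
        mul_comm]
    have e2 : ∀ a, D G (fc hE fun ab => ρ ab.1 ab.2) a ^ l a = ∏ b, ρ a b ^ (l a * m a b) :=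
      fun a => by
      conv_lhs => rw [← eG]
      rw [D_fc, Fintype.prod_prod_type,
        Finset.prod_eq_single a (fun c _ hc => by simp [hc]) (by simp), ← Finset.prod_pow]
      refine Finset.prod_congr rfl fun b _ => ?_
      rw [if_pos rfl, ← pow_mul, mul_comm]
    simp only [e1, e2]
    rw [Finset.prod_comm]
    exact h4 m m1 m2 m3
  · conv_rhs => rw [← eS]
    rw [trace_fc, trace_fc, Fintype.sum_prod_type, Fintype.sum_prod_type]
    simpa only [mul_comm] using h5 m m1 m2 m3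
  · have e3 : ∀ a, ep G a = fc hE fun i => if i.1 = a then 1 else 0 := fun a => by
      rw [← ep_fc, eG]
    simp only [e3, ep_fc, ← map_mul, ← map_smul, ← map_sum]
    rw [← eS]
    congr 1
    funext ab
    simp only [Finset.sum_apply, Pi.smul_apply, Pi.mul_apply, smul_eq_mul, mul_ite, mul_one,
      mul_zero]
    rw [Finset.sum_eq_single ab.1 (fun c _ hc => by simp [hc.symm]) (by simp),
      Finset.sum_eq_single (ρ ab.1 ab.2) (fun c _ hc => by simp [hc.symm]) (by simp)]
    simp [Function.leftInverse_invFun (h2 ab.1) ab.2]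

end CL.KGZ
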